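import Groth.Agent.S4103
import Groth.Agent.AGFHopf.NormalKer
import Groth.Agent.GrpSchLib.SubHopf

/-!
# Normal Hopf ideals and Hopf subalgebras over a field
-/

set_option backward.isDefEq.respectTransparency false
set_option backward.isDefEq.respectTransparency.types false
set_option linter.style.haveILetI false

universe u

open TensorProduct WithConv

noncomputable section

namespace Groth.Agent.SGAHopfQuot20

variable {k A : Type u} [Field k] [CommRing A] [HopfAlgebra k A]

theorem aug_mem (B : Subalgebra k A) {x : A} (hx : x ∈ B) :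
    x - algebraMap k A (Coalgebra.counit (R := k) x) ∈ SGA3.augIdealSpan k A B :=
  Ideal.subset_span ⟨sub_mem hx (B.algebraMap_mem _), by rw [map_sub, Bialgebra.counit_algebraMap, sub_self]⟩

/-- Elements invariant modulo an ideal. -/
def coinv (J : Ideal A) : Set A :=
  {x : A | CoalgebraStruct.comul (R := k) (A := A) x - x ⊗ₜ[k] (1 : A) ∈
    LinearMap.range (LinearMap.lTensor A (J.restrictScalars k).subtype)}

theorem le_coinv {B : Subalgebra k A} (hB : SGA3.IsHopfSubalgebra k A B) {J : Ideal A}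
    (hJ : SGA3.augIdealSpan k A B ≤ J) : (B : Set A) ⊆ coinv (k := k) J := by
  intro b hb
  obtain ⟨z, hz⟩ := hB.1 b hb
  let E : A ⊗[k] A →ₗ[k] A := (TensorProduct.rid k A).toLinearMap ∘ₗ (Coalgebra.counit (R := k)).lTensor A
  have key : ∀ w : B ⊗[k] B, TensorProduct.map B.val.toLinearMap B.val.toLinearMap w -
      E (TensorProduct.map B.val.toLinearMap B.val.toLinearMap w) ⊗ₜ[k] (1 : A) ∈
        LinearMap.range (LinearMap.lTensor A (J.restrictScalars k).subtype) := by
    intro w
    induction w using TensorProduct.induction_on with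
    | zero => simp
    | tmul p q =>
      refine ⟨(p : A) ⊗ₜ[k] ⟨(q : A) - algebraMap k A (Coalgebra.counit (R := k) (q : A)), hJ (aug_mem B q.2)⟩, ?_⟩
      simp only [LinearMap.lTensor_tmul, TensorProduct.map_tmul, AlgHom.toLinearMap_apply, Subalgebra.coe_val,
        Submodule.subtype_apply, E, LinearMap.comp_apply, LinearEquiv.coe_coe, TensorProduct.rid_tmul,
        TensorProduct.tmul_sub, Algebra.algebraMap_eq_smul_one, TensorProduct.smul_tmul]
    | add s t hs ht =>
      simp only [map_add, TensorProduct.add_tmul]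
      rw [show ∀ a b c d : A ⊗[k] A, a + b - (c + d) = (a - c) + (b - d) from fun a b c d => by abel]
      exact add_mem hs ht
  have e : E (CoalgebraStruct.comul (R := k) b) = b := by
    simp only [E, LinearMap.comp_apply, LinearEquiv.coe_coe, Coalgebra.lTensor_counit_comul, TensorProduct.rid_tmul,
      one_smul]
  have h := key z
  rw [hz, e] at h
  exact h

theorem counit_sub_mem {J : Ideal A} {x : A} (hx : x ∈ coinv (k := k) J) :
    x - algebraMap k A (Coalgebra.counit (R := k) x) ∈ J := by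
  obtain ⟨w, hw⟩ := hx
  let E : A ⊗[k] A →ₗ[k] A := (TensorProduct.lid k A).toLinearMap ∘ₗ (Coalgebra.counit (R := k)).rTensor A
  have key : ∀ w : A ⊗[k] (J.restrictScalars k), E (LinearMap.lTensor A (J.restrictScalars k).subtype w) ∈ J := by
    intro w
    induction w using TensorProduct.induction_on with
    | zero => simp
    | tmul p q =>
      simp only [E, LinearMap.comp_apply, LinearMap.lTensor_tmul, LinearMap.rTensor_tmul, LinearEquiv.coe_coe,
        TensorProduct.lid_tmul, Algebra.smul_def]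
      exact J.mul_mem_left _ q.2
    | add s t hs ht => simp only [map_add]; exact J.add_mem hs ht
  have h := key w
  rw [hw, map_sub] at h
  simpa [E, Coalgebra.rTensor_counit_comul, Algebra.algebraMap_eq_smul_one] using h

/-- For a faithfully flat Hopf subalgebra the invariants modulo its augmentation lie in it. -/
theorem coinv_subset {B : Subalgebra k A} (hB : SGA3.IsHopfSubalgebra k A B) :
    coinv (k := k) (SGA3.augIdealSpan k A B) ⊆ (B : Set A) := by
  haveI : Module.FaithfullyFlat B A := S4103.result k A B hB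
  intro x hx
  let L : A →ₐ[k] A ⊗[B] A := (Algebra.TensorProduct.includeLeft : A →ₐ[k] A ⊗[B] A)
  let R : A →ₐ[k] A ⊗[B] A := (Algebra.TensorProduct.includeRight : A →ₐ[B] A ⊗[B] A).restrictScalars k
  let θ : A →ₐ[k] A ⊗[B] A := (toConv (L.comp (HopfAlgebra.antipodeAlgHom k A)) * toConv R).ofConv
  have hθ : ∀ b ∈ B, θ b = algebraMap k _ (Coalgebra.counit (R := k) b) := by
    intro b hb
    obtain ⟨z, hz⟩ := hB.1 b hb
    have hθ' : θ b = Algebra.TensorProduct.lift (L.comp (HopfAlgebra.antipodeAlgHom k A)) R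
        (fun _ _ => Commute.all _ _) (CoalgebraStruct.comul (R := k) b) := by
      show _ = Algebra.TensorProduct.lift _ _ _ (Bialgebra.comulAlgHom k A b)
      simp only [θ, AlgHom.convMul_def, WithConv.ofConv_toConv, AlgHom.comp_apply]
      generalize Bialgebra.comulAlgHom k A b = w
      induction w using TensorProduct.induction_on with
      | zero => simp
      | tmul p q => simp
      | add s t hs ht => simp only [map_add, hs, ht]
    rw [hθ', ← hz]
    have key : ∀ w : B ⊗[k] B, Algebra.TensorProduct.lift (L.comp (HopfAlgebra.antipodeAlgHom k A)) R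
        (fun _ _ => Commute.all _ _) (TensorProduct.map B.val.toLinearMap B.val.toLinearMap w) =
        L (LinearMap.mul' k A ((HopfAlgebraStruct.antipode (R := k) (A := A)).rTensor A
          (TensorProduct.map B.val.toLinearMap B.val.toLinearMap w))) := by
      intro w
      induction w using TensorProduct.induction_on with
      | zero => simp
      | tmul p q =>
        simp only [TensorProduct.map_tmul, AlgHom.toLinearMap_apply, Subalgebra.coe_val, Algebra.TensorProduct.lift_tmul,
          LinearMap.rTensor_tmul, LinearMap.mul'_apply, map_mul]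
        congr 1
        show (1 : A) ⊗ₜ[B] (q : A) = (q : A) ⊗ₜ[B] (1 : A)
        rw [show (q : A) = (q : B) • (1 : A) from (mul_one _).symm, ← TensorProduct.smul_tmul]
      | add s t hs ht => simp only [map_add, hs, ht]
    rw [key, hz, HopfAlgebra.mul_antipode_rTensor_comul_apply, AlgHom.commutes]
  have hθJ : ∀ a ∈ SGA3.augIdealSpan k A B, θ a = 0 := by
    intro a ha
    refine (Ideal.span_le (I := RingHom.ker θ.toRingHom)).mpr ?_ ha
    rintro c ⟨hc, hε⟩
    show θ c = 0
    rw [hθ c hc, hε, map_zero]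
  let Ψ : A ⊗[k] A →ₐ[k] A ⊗[B] A := Algebra.TensorProduct.lift L θ fun _ _ => Commute.all _ _
  obtain ⟨w, hw⟩ := hx
  have hker : ∀ w : A ⊗[k] ((SGA3.augIdealSpan k A B).restrictScalars k),
      Ψ (LinearMap.lTensor A ((SGA3.augIdealSpan k A B).restrictScalars k).subtype w) = 0 := by
    intro w
    induction w using TensorProduct.induction_on with
    | zero => simp
    | tmul p q =>
      show Ψ (p ⊗ₜ[k] (q : A)) = 0
      simp only [Ψ, Algebra.TensorProduct.lift_tmul, hθJ _ q.2, mul_zero]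
    | add s t hs ht => simp only [map_add, hs, ht, add_zero]
  have h0 := hker w
  rw [hw, map_sub] at h0
  have hΔ : Ψ (CoalgebraStruct.comul (R := k) x) = R x := by
    have e : toConv L * toConv θ = toConv R := by
      show toConv L * (toConv (L.comp (HopfAlgebra.antipodeAlgHom k A)) * toConv R) = _
      refine (_root_.mul_assoc (G := WithConv (A →ₐ[k] A ⊗[B] A)) _ _ _).symm.trans ?_
      rw [HopfPtLib.convMul_antipode_comp]
      exact _root_.one_mul (M := WithConv (A →ₐ[k] A ⊗[B] A)) _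
    have := congrArg (fun φ : WithConv (A →ₐ[k] A ⊗[B] A) => φ.ofConv x) e
    refine Eq.trans ?_ this
    simp only [Ψ, AlgHom.convMul_def, WithConv.ofConv_toConv, AlgHom.comp_apply]
    show Algebra.TensorProduct.lift L θ _ (Bialgebra.comulAlgHom k A x) = _
    generalize Bialgebra.comulAlgHom k A x = z
    induction z using TensorProduct.induction_on with
    | zero => simp
    | tmul p q => simp
    | add s t hs ht => simp only [map_add, hs, ht]
  rw [hΔ] at h0
  simp only [Ψ, Algebra.TensorProduct.lift_tmul, map_one, mul_one] at h0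
  have hx1 : (1 : A) ⊗ₜ[B] x = x ⊗ₜ[B] (1 : A) := sub_eq_zero.mp h0
  let N := LinearMap.range (Algebra.linearMap B A)
  have h2 : (1 : A) ⊗ₜ[B] N.mkQ x = 0 := by
    have := congrArg (N.mkQ.lTensor A) hx1
    rw [LinearMap.lTensor_tmul, LinearMap.lTensor_tmul,
      show N.mkQ (1 : A) = 0 from (Submodule.Quotient.mk_eq_zero N).mpr ⟨1, (algebraMap B A).map_one⟩,
      TensorProduct.tmul_zero] at this
    exact this
  rw [Module.FaithfullyFlat.one_tmul_eq_zero_iff B] at h2
  obtain ⟨b, hb⟩ := (Submodule.Quotient.mk_eq_zero _).mp h2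
  exact hb ▸ b.2

theorem isHopfSubalgebra_sSup (T : Set (Subalgebra k A)) (hT : ∀ D ∈ T, SGA3.IsHopfSubalgebra k A D) :
    SGA3.IsHopfSubalgebra k A (sSup T) := by
  constructor
  · have h : sSup T ≤ (Algebra.TensorProduct.map (sSup T).val (sSup T).val).range.comap (Bialgebra.comulAlgHom k A) := by
      refine sSup_le fun D hD b hb => ?_
      obtain ⟨z, hz⟩ := (hT D hD).1 b hb
      refine ⟨TensorProduct.map (Subalgebra.inclusion (le_sSup hD)).toLinearMap
        (Subalgebra.inclusion (le_sSup hD)).toLinearMap z, Eq.trans ?_ hz⟩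
      show TensorProduct.map (sSup T).val.toLinearMap (sSup T).val.toLinearMap _ = _
      rw [← LinearMap.comp_apply, ← TensorProduct.map_comp]
      rfl
    exact fun b hb => h hb
  · have h : sSup T ≤ (sSup T).comap (HopfAlgebra.antipodeAlgHom k A) :=
      sSup_le fun D hD b hb => le_sSup (α := Subalgebra k A) hD ((hT D hD).2 b hb)
    exact fun b hb => h hb

theorem isHopfIdeal_comap {C : Type u} [CommRing C] [HopfAlgebra k C] (f : C →ₐc[k] A) (I : Ideal A) [I.IsHopfIdeal k] :
    Ideal.IsHopfIdeal k (I.comap (f : C →ₐ[k] A).toRingHom) := by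
  set J : Ideal C := I.comap (f : C →ₐ[k] A).toRingHom
  let q : C ⧸ J →ₐ[k] A ⧸ I := Ideal.quotientMapₐ I (f : C →ₐ[k] A) le_rfl
  have hq : Function.Injective q := Ideal.quotientMap_injective
  haveI : (J.restrictScalars k).IsCoideal := by
    refine ⟨fun c hc => ?_, fun c hc => ?_⟩
    · rw [← CoalgHomClass.counit_comp_apply f c]
      exact Submodule.IsCoideal.counit_eq_zero (I := I.restrictScalars k) hc
    · let mC : C →ₗ[k] C ⧸ J := (Ideal.Quotient.mkₐ k J).toLinearMap
      let mA : A →ₗ[k] A ⧸ I := (Ideal.Quotient.mkₐ k I).toLinearMap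
      show TensorProduct.map mC mC (Coalgebra.comul (R := k) c) = 0
      apply TensorProduct.map_injective_of_flat_flat q.toLinearMap q.toLinearMap hq hq
      rw [map_zero, ← LinearMap.comp_apply, ← TensorProduct.map_comp]
      have h1 : TensorProduct.map mA mA (Coalgebra.comul (R := k) (f c)) = 0 :=
        Submodule.IsCoideal.map_mkQ_comul_eq_zero (I := I.restrictScalars k) hc
      refine Eq.trans ?_ h1
      rw [← CoalgHomClass.map_comp_comul_apply f c, ← LinearMap.comp_apply (TensorProduct.map mA mA),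
        ← TensorProduct.map_comp]
      rfl
  refine ⟨fun c hc => ?_⟩
  show f (HopfAlgebraStruct.antipode (R := k) c) ∈ I
  rw [← GrpSchLib.HopfGalois.antipode_bialgHom]
  exact Ideal.IsHopfIdeal.antipode_mem (R := k) (I := I) hc

theorem isNormal_comap {C : Type u} [CommRing C] [HopfAlgebra k C] (f : C →ₐc[k] A) (hf : Function.Injective f)
    (I : Ideal A) (hI : SGA3.IsNormalHopfIdeal k A I) :
    SGA3.IsNormalHopfIdeal k C (I.comap (f : C →ₐ[k] A).toRingHom) := by
  set J : Ideal C := I.comap (f : C →ₐ[k] A).toRingHom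
  let q : C ⧸ J →ₐ[k] A ⧸ I := Ideal.quotientMapₐ I (f : C →ₐ[k] A) le_rfl
  have hq : Function.Injective q := Ideal.quotientMap_injective
  intro R _ _ g h hh c hc
  let g₀ : C →ₐ[k] C ⊗[k] (C ⧸ J) := Algebra.TensorProduct.includeLeft
  let h₀ : C →ₐ[k] C ⊗[k] (C ⧸ J) := Algebra.TensorProduct.includeRight.comp (Ideal.Quotient.mkₐ k J)
  let ι : C ⊗[k] (C ⧸ J) →ₐ[k] A ⊗[k] (A ⧸ I) := Algebra.TensorProduct.map (f : C →ₐ[k] A) q
  have hι : Function.Injective ι := GrpSchLib.SubHopf.map_val_injective _ _ hf hq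
  let gA : A →ₐ[k] A ⊗[k] (A ⧸ I) := Algebra.TensorProduct.includeLeft
  let hA : A →ₐ[k] A ⊗[k] (A ⧸ I) := Algebra.TensorProduct.includeRight.comp (Ideal.Quotient.mkₐ k I)
  have hg : ι.comp g₀ = gA.comp (f : C →ₐ[k] A) := AlgHom.ext fun x => by simp [ι, g₀, gA]
  have hh' : ι.comp h₀ = hA.comp (f : C →ₐ[k] A) := AlgHom.ext fun x => by
    simp [ι, h₀, hA, q]
  have hS : (f : C →ₐ[k] A).comp (HopfAlgebra.antipodeAlgHom k C) =
      (HopfAlgebra.antipodeAlgHom k A).comp (f : C →ₐ[k] A) :=
    AlgHom.ext fun x => (GrpSchLib.HopfGalois.antipode_bialgHom f x).symm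
  have e : ι.comp (Dyn.conv3 k C g₀ h₀ (g₀.comp (HopfAlgebra.antipodeAlgHom k C))) =
      (Dyn.conv3 k A gA hA (gA.comp (HopfAlgebra.antipodeAlgHom k A))).comp (f : C →ₐ[k] A) := by
    apply WithConv.toConv_injective
    rw [HopfPtLib.conv3_eq, HopfPtLib.conv3_eq, AlgHom.comp_convMul_distrib, AlgHom.comp_convMul_distrib,
      AlgHom.convMul_comp_bialgHom_distrib, AlgHom.convMul_comp_bialgHom_distrib]
    simp only [WithConv.toConv_ofConv]
    rw [hh', ← AlgHom.comp_assoc ι g₀, hg, AlgHom.comp_assoc gA (f : C →ₐ[k] A), hS]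
    rfl
  have h0 : Dyn.conv3 k C g₀ h₀ (g₀.comp (HopfAlgebra.antipodeAlgHom k C)) c = 0 := by
    apply hι
    rw [map_zero, ← AlgHom.comp_apply, e]
    exact hI _ gA hA (fun x hx => by
      simp only [hA, AlgHom.comp_apply, Ideal.Quotient.mkₐ_eq_mk, Ideal.Quotient.eq_zero_iff_mem.mpr hx, map_zero])
      _ hc
  let Ψ : C ⊗[k] (C ⧸ J) →ₐ[k] R := Algebra.TensorProduct.lift g (Ideal.Quotient.liftₐ J h hh) fun _ _ => Commute.all _ _
  have hΨg : Ψ.comp g₀ = g := Algebra.TensorProduct.lift_comp_includeLeft _ _ _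
  have hΨh : Ψ.comp h₀ = h := AlgHom.ext fun x => by simp [Ψ, h₀]
  have hnat : Dyn.conv3 k C g h (g.comp (HopfAlgebra.antipodeAlgHom k C)) =
      Ψ.comp (Dyn.conv3 k C g₀ h₀ (g₀.comp (HopfAlgebra.antipodeAlgHom k C))) := by
    apply WithConv.toConv_injective
    rw [HopfPtLib.conv3_eq, HopfPtLib.conv3_eq, AlgHom.comp_convMul_distrib, AlgHom.comp_convMul_distrib]
    simp only [WithConv.toConv_ofConv, ← AlgHom.comp_assoc, hΨg, hΨh]
  rw [hnat, AlgHom.comp_apply, h0, map_zero]

/-- A normal Hopf ideal meets each element inside the augmentation of some Hopf subalgebra. -/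
theorem exists_hopf_mem (I : Ideal A) [I.IsHopfIdeal k] (hI : SGA3.IsNormalHopfIdeal k A I) {a : A} (ha : a ∈ I) :
    ∃ D : Subalgebra k A, SGA3.IsHopfSubalgebra k A D ∧ SGA3.augIdealSpan k A D ≤ I ∧
      a ∈ SGA3.augIdealSpan k A D := by
  classical
  obtain ⟨C, hCa, hCf, hC⟩ := GrpSchLib.ProPoints.exists_fg_hopf_of_finset (k := k) ({a} : Finset A)
  letI := GrpSchLib.SubHopf.hopf C hC
  haveI : Algebra.FiniteType k C := (Subalgebra.fg_iff_finiteType C).mp hCf
  let valB : C →ₐc[k] A := BialgHom.ofAlgHom C.val rfl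
    (AlgHom.ext fun c => (GrpSchLib.SubHopf.map_comulRes C hC c))
  let J : Ideal C := I.comap (valB : C →ₐ[k] A).toRingHom
  haveI : J.IsHopfIdeal k := isHopfIdeal_comap valB I
  have hN : SGA3.IsNormalHopfIdeal k C J := isNormal_comap valB Subtype.val_injective I hI
  obtain ⟨D, -, hD, hker⟩ := ComodLib.Normal.exists_hopf_subalgebra (AGFHopf.isNormalPts_mk J hN)
    Ideal.Quotient.mk_surjective
  replace hker : J = Ideal.span {c : C | c ∈ D ∧ Coalgebra.counit (R := k) c = 0} :=
    Eq.trans Ideal.mk_ker.symm hker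
  refine ⟨D.map C.val, ⟨?_, ?_⟩, ?_, ?_⟩
  · rintro _ ⟨d, hd, rfl⟩
    obtain ⟨z, hz⟩ := hD.1 d hd
    let f : D →ₗ[k] D.map C.val :=
      { toFun := fun x => ⟨C.val x.1, x.1, x.2, rfl⟩
        map_add' := fun x y => rfl
        map_smul' := fun r x => rfl }
    refine ⟨TensorProduct.map f f z, ?_⟩
    rw [← LinearMap.comp_apply, ← TensorProduct.map_comp]
    refine Eq.trans ?_ (GrpSchLib.SubHopf.map_comulRes C hC d)
    show _ = TensorProduct.map C.val.toLinearMap C.val.toLinearMap (Coalgebra.comul (R := k) d)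
    rw [← hz, ← LinearMap.comp_apply (TensorProduct.map C.val.toLinearMap _), ← TensorProduct.map_comp]
    rfl
  · rintro _ ⟨d, hd, rfl⟩
    exact ⟨_, hD.2 d hd, rfl⟩
  · refine Ideal.span_le.mpr ?_
    rintro _ ⟨⟨d, hd, rfl⟩, hε⟩
    have : d ∈ J := hker ▸ Ideal.subset_span ⟨hd, hε⟩
    exact this
  · have haJ : (⟨a, hCa (by simp)⟩ : C) ∈ J := ha
    rw [hker] at haJ
    have := Ideal.mem_map_of_mem C.val.toRingHom haJ
    rw [Ideal.map_span] at this
    refine Ideal.span_mono ?_ this
    rintro _ ⟨d, ⟨hd, hε⟩, rfl⟩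
    exact ⟨⟨d, hd, rfl⟩, hε⟩

theorem exists_hopfSubalgebra (I : Ideal A) [I.IsHopfIdeal k] (hI : SGA3.IsNormalHopfIdeal k A I) :
    ∃ B : Subalgebra k A, SGA3.IsHopfSubalgebra k A B ∧ Module.FaithfullyFlat B A ∧
      I = SGA3.augIdealSpan k A B := by
  let T : Set (Subalgebra k A) := {D | SGA3.IsHopfSubalgebra k A D ∧ SGA3.augIdealSpan k A D ≤ I}
  have hB := isHopfSubalgebra_sSup T fun D hD => hD.1
  refine ⟨sSup T, hB, S4103.result k A _ hB, le_antisymm (fun a ha => ?_) ?_⟩
  · obtain ⟨D, hD, hDI, haD⟩ := exists_hopf_mem I hI ha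
    refine Ideal.span_mono ?_ haD
    rintro c ⟨hc, hε⟩
    exact ⟨le_sSup (α := Subalgebra k A) (show D ∈ T from ⟨hD, hDI⟩) hc, hε⟩
  · refine Ideal.span_le.mpr ?_
    rintro c ⟨hc, hε⟩
    have h : sSup T ≤ AlgHom.equalizer (Ideal.Quotient.mkₐ k I)
        ((Algebra.ofId k (A ⧸ I)).comp (Bialgebra.counitAlgHom k A)) := by
      refine sSup_le fun D hD d hd => ?_
      show Ideal.Quotient.mk I d = algebraMap k (A ⧸ I) (Coalgebra.counit (R := k) d)
      rw [← Ideal.Quotient.mk_algebraMap (R₁ := k) I]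
      exact Ideal.Quotient.eq.mpr (hD.2 (aug_mem D hd))
    refine Ideal.Quotient.eq_zero_iff_mem.mp ((h hc).trans ?_)
    show algebraMap k (A ⧸ I) (Coalgebra.counit (R := k) c) = 0
    rw [hε, map_zero]

theorem eq_augIdealSpan_iff {B : Subalgebra k A} (hB : SGA3.IsHopfSubalgebra k A B) (J : Ideal A) [J.IsHopfIdeal k]
    (hJ : SGA3.IsNormalHopfIdeal k A J) :
    J = SGA3.augIdealSpan k A B ↔ (B : Set A) = coinv (k := k) J := by
  constructor
  · rintro rfl
    exact subset_antisymm (le_coinv hB le_rfl) (coinv_subset hB)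
  · intro hBJ
    obtain ⟨B', hB', -, hJB'⟩ := exists_hopfSubalgebra J hJ
    refine le_antisymm ?_ ?_
    · rw [hJB']
      refine Ideal.span_mono ?_
      rintro c ⟨hc, hε⟩
      refine ⟨?_, hε⟩
      rw [← SetLike.mem_coe, hBJ]
      exact le_coinv hB' hJB'.ge hc
    · refine Ideal.span_le.mpr ?_
      rintro c ⟨hc, hε⟩
      have hε' : Coalgebra.counit (R := k) c = 0 := hε
      have := counit_sub_mem (k := k) (hBJ.subset hc)
      rwa [hε', map_zero, sub_zero] at this

end Groth.Agent.SGAHopfQuot20
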